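/-
Definitions for the proof of S5720 (large fixed spaces).
-/
import Mathlib

set_option autoImplicit false

namespace H0.FX
open Module
open scoped MatrixGroups

section
variable {G K V : Type*} [Group G] [Field K] [AddCommGroup V] [Module K V]

/-- dimension of the fixed space of `g` -/
noncomputable def fx (ρ : Representation K G V) (g : G) : ℕ := finrank K (LinearMap.ker (ρ g - 1))

/-- every non-identity element has a small fixed space -/
def Bad (ρ : Representation K G V) : Prop := ∀ g : G, g ≠ 1 → 6 * fx ρ g < finrank K V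

/-- no proper invariant subspace -/
def Simp (ρ : Representation K G V) : Prop :=
  ∀ N : Submodule K V, (∀ g, ∀ s ∈ N, ρ g s ∈ N) → N = ⊥ ∨ N = ⊤

/-- rank of a group algebra element -/
noncomputable def rk (ρ : Representation K G V) (a : MonoidAlgebra K G) : ℕ :=
  finrank K (LinearMap.range (ρ.asAlgebraHom a))

/-- the projection onto the `μ`-eigenspace of `t`, when `t ^ N = 1` -/
noncomputable def proj (t : G) (N : ℕ) (μ : K) : MonoidAlgebra K G :=
  ∑ i ∈ Finset.range N, MonoidAlgebra.single (t ^ i) ((N : K)⁻¹ * (μ ^ i)⁻¹)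

theorem Bad.comp {ρ : Representation K G V} (h : Bad ρ) {S : Type*} [Group S] (φ : S →* G)
    (hφ : Function.Injective φ) : Bad (K := K) (V := V) (ρ.comp φ) := fun g hg =>
  h (φ g) fun e => hg (hφ (e.trans (map_one φ).symm))

end

/-- elements of order three centralise what they normalise commutatively -/
def F3 (G : Type*) [Group G] : Prop :=
  ∀ x y : G, orderOf x = 3 → Commute y (x * y * x⁻¹) → Commute y (x ^ 2 * y * (x ^ 2)⁻¹) → Commute x y

/-- at most one involution -/
def Inv1 (G : Type*) [Group G] : Prop := ∀ s t : G, orderOf s = 2 → orderOf t = 2 → s = t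

/-- `r`-subgroups are cyclic -/
def Cyc (r : ℕ) (G : Type*) [Group G] : Prop := ∀ P : Subgroup G, IsPGroup r P → IsCyclic P

section
variable {F : Type*} [Field F]

/-- upper unitriangular matrix -/
def up (c : F) : SL(2, F) := ⟨!![1, c; 0, 1], by simp [Matrix.det_fin_two]⟩

/-- diagonal matrix -/
def dg (c : Fˣ) : SL(2, F) := ⟨!![(c : F), 0; 0, ((c⁻¹ : Fˣ) : F)], by simp [Matrix.det_fin_two]⟩

/-- an element of order three -/
def x3 : SL(2, F) := ⟨!![0, -1; 1, -1], by simp [Matrix.det_fin_two]⟩

end

/-- the prime field inside `K` -/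
noncomputable abbrev io (p : ℕ) (K : Type*) [Field K] [CharP K p] : ZMod p →+* K := ZMod.castHom (dvd_refl p) K

/-- the raising operator in the group algebra -/
noncomputable def DD (p : ℕ) [Fact p.Prime] (K : Type*) [Field K] [CharP K p] : MonoidAlgebra K SL(2, ZMod p) :=
  ∑ c : (ZMod p)ˣ, MonoidAlgebra.single (up (c : ZMod p)) (io p K c)⁻¹

end H0.FX
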